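import Mathlib
import Cfsg.Agent.Lib.Helper14.OCls.Defs

set_option autoImplicit false

/-! Project OCLS (S2673-S2675, coordinator helper14), package ANISO. -/

namespace Cfsg.Agent.Lib.Helper85.OCls

open Cfsg.Agent.Lib.Helper14.OCls

universe u

/-- Anisotropic binary forms exist over every finite field. -/
theorem pkgAniso : PkgAniso.{u} := by
  intro F _ _
  have hni : ¬ Function.Injective (fun x : F => x ^ 2 - x) := by
    intro h
    have h1 : (fun x : F => x ^ 2 - x) 0 = (fun x : F => x ^ 2 - x) 1 := by simp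
    exact zero_ne_one (h h1)
  have hns : ¬ Function.Surjective (fun x : F => x ^ 2 - x) := fun h =>
    hni (Finite.injective_iff_surjective.mpr h)
  have hd : ∃ d : F, ∀ x : F, x ^ 2 - x ≠ d := by
    by_contra hc
    push_neg at hc
    exact hns (fun d => hc d)
  obtain ⟨d, hd⟩ := hd
  refine ⟨-1, -d, ?_⟩
  intro z₁ z₂ h
  by_cases hz : z₂ = 0
  · subst hz
    have h1 : z₁ ^ 2 = 0 := by simpa using h
    exact ⟨pow_eq_zero_iff (two_ne_zero) |>.mp h1, rfl⟩
  · exfalso
    apply hd (z₁ / z₂)
    field_simp
    linear_combination h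

end Cfsg.Agent.Lib.Helper85.OCls
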