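import Mathlib
import Cfsg.Agent.Lib.Helper14.OCls.Defs

set_option autoImplicit false

/-! Project OCLS (S2673-S2675, coordinator helper14), package ARITH. -/

namespace Cfsg.Agent.Lib.Helper85.OCls

open Cfsg.Agent.Lib.Helper14.OCls

/-- The type of a form with an isometry of order `r` is determined modulo `r` by the type of the
form on the fixed space. -/
theorem pkgArith : PkgArith := by
  intro q r b s m k hr hr2 hrq hb hbe h2m e e' he he' Z Z' hZ hZ' hZZ
  haveI : Fact r.Prime := ⟨hr⟩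
  have hQ0 : ((q : ℕ) : ZMod r) ≠ 0 := by
    rw [Ne, ZMod.natCast_eq_zero_iff]
    exact hrq
  obtain ⟨c, hc⟩ := hbe
  have hfin : IsOfFinOrder ((q : ℕ) : ZMod r) :=
    isOfFinOrder_iff_pow_eq_one.mpr ⟨r - 1, Nat.sub_pos_of_lt hr.one_lt,
      ZMod.pow_card_sub_one_eq_one hQ0⟩
  have hbpos : 0 < b := by rw [hb]; exact orderOf_pos_iff.mpr hfin
  have hQb : ((q : ℕ) : ZMod r) ^ b = 1 := by rw [hb]; exact pow_orderOf_eq_one _
  have hQ1 : ((q : ℕ) : ZMod r) ≠ 1 := by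
    intro h
    rw [h, orderOf_one] at hb
    omega
  have hQc : ((q : ℕ) : ZMod r) ^ c = -1 := by
    have h1 : (((q : ℕ) : ZMod r) ^ c - 1) * (((q : ℕ) : ZMod r) ^ c + 1) = 0 := by
      have : ((q : ℕ) : ZMod r) ^ c * ((q : ℕ) : ZMod r) ^ c = 1 := by
        rw [← pow_add, ← hc]; exact hQb
      linear_combination this
    rcases mul_eq_zero.mp h1 with h2 | h2
    · exfalso
      have h3 : ((q : ℕ) : ZMod r) ^ c = 1 := sub_eq_zero.mp h2
      have h4 := orderOf_dvd_of_pow_eq_one h3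
      rw [← hb] at h4
      have h5 := Nat.le_of_dvd (by omega) h4
      omega
    · exact eq_neg_of_add_eq_zero_left h2
  have hm : m = k + c * s := by
    have : 2 * m = 2 * (k + c * s) := by rw [h2m, hc]; ring
    omega
  have hQm : ((q : ℕ) : ZMod r) ^ m = ((q : ℕ) : ZMod r) ^ k * (-1) ^ s := by
    rw [hm, pow_add, pow_mul, hQc]
  have hQ2m : ((q : ℕ) : ZMod r) ^ (2 * m) = ((q : ℕ) : ZMod r) ^ (2 * k) := by
    rw [h2m, pow_add, pow_mul _ b s, hQb, one_pow, mul_one]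
  have h1 := congrArg (Int.cast : ℤ → ZMod r) hZ
  have h2 := congrArg (Int.cast : ℤ → ZMod r) hZ'
  have h3 : (Z : ZMod r) = (Z' : ZMod r) := (ZMod.intCast_eq_intCast_iff Z Z' r).mpr hZZ
  push_cast at h1 h2
  rw [hQ2m, pow_succ, hQm, h3] at h1
  rw [pow_succ] at h2
  have h4 : (((e * (-1) ^ s - e' : ℤ)) : ZMod r) *
      (((q : ℕ) : ZMod r) ^ k * (((q : ℕ) : ZMod r) - 1)) = 0 := by
    push_cast
    linear_combination h2 - h1
  have hk0 : ((q : ℕ) : ZMod r) ^ k * (((q : ℕ) : ZMod r) - 1) ≠ 0 :=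
    mul_ne_zero (pow_ne_zero _ hQ0) (sub_ne_zero.mpr hQ1)
  have h5 : (((e * (-1) ^ s - e' : ℤ)) : ZMod r) = 0 :=
    (mul_eq_zero.mp h4).resolve_right hk0
  have h6 : (r : ℤ) ∣ e * (-1) ^ s - e' := (ZMod.intCast_zmod_eq_zero_iff_dvd _ r).mp h5
  have hε : ((-1 : ℤ)) ^ s = 1 ∨ ((-1 : ℤ)) ^ s = -1 := by
    rcases Nat.even_or_odd s with h | h
    · left; exact h.neg_one_pow
    · right; exact h.neg_one_pow
  have hr3 : (3 : ℤ) ≤ (r : ℤ) := by
    have := hr.two_le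
    have h7 : 3 ≤ r := by omega
    exact_mod_cast h7
  have hcase : ∀ x : ℤ, (r : ℤ) ∣ x → -2 ≤ x → x ≤ 2 → x = 0 := by
    intro x hx h1 h2
    by_contra hne
    have := Int.le_of_dvd (by positivity : (0 : ℤ) < |x|) ((dvd_abs _ _).mpr hx)
    have : |x| ≤ 2 := abs_le.mpr ⟨h1, h2⟩
    omega
  rcases he with rfl | rfl <;> rcases he' with rfl | rfl <;> rcases hε with h | h <;>
    rw [h] at h6 ⊢ <;>
    · have h7 := hcase _ h6 (by norm_num) (by norm_num)
      omega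

end Cfsg.Agent.Lib.Helper85.OCls
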