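import Mathlib
import Cfsg.Agent.Lib.Helper14.OCls.Defs

set_option autoImplicit false

/-! Project OCLS (S2673-S2675, coordinator helper14), package FREE. -/

namespace Cfsg.Agent.Lib.Helper85.OCls

open Cfsg.Agent.Lib.Helper14.OCls Matrix

universe u

/-- Fixed point congruence: an isometry with `r`-th power one, `r` prime. -/
theorem pkgFree : PkgFree.{u} := by
  intro F _ _ ι _ _ Qf g r hr hQ hg
  classical
  haveI : Fact r.Prime := ⟨hr⟩
  let f : Function.End {v : ι → F // Qf v = 0} := fun v => ⟨g *ᵥ v.1, by rw [hQ]; exact v.2⟩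
  have hpow : ∀ (k : ℕ) (v : {v : ι → F // Qf v = 0}), ((f ^ k) v : ι → F) = (g ^ k) *ᵥ v.1 := by
    intro k
    induction k with
    | zero =>
      intro v
      rw [pow_zero, pow_zero, Matrix.one_mulVec]
      rfl
    | succ k ih =>
      intro v
      rw [pow_succ', pow_succ']
      show ((f ((f ^ k) v) : {v : ι → F // Qf v = 0}) : ι → F) = _
      show g *ᵥ ((f ^ k) v : ι → F) = _
      rw [ih, Matrix.mulVec_mulVec]
  have hf : f ^ r ^ 1 = 1 := by
    rw [pow_one]
    funext v
    apply Subtype.ext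
    rw [hpow, hg, Matrix.one_mulVec]
    rfl
  have h1 := Equiv.Perm.card_fixedPoints_modEq hf
  have e : ↥(Function.fixedPoints f) ≃ {v : ι → F // Qf v = 0 ∧ g *ᵥ v = v} :=
    { toFun := fun v => ⟨v.1.1, v.1.2, congrArg Subtype.val v.2⟩
      invFun := fun v => ⟨⟨v.1, v.2.1⟩, Subtype.ext v.2.2⟩
      left_inv := fun v => rfl
      right_inv := fun v => rfl }
  rw [Nat.card_eq_fintype_card, ← Nat.card_congr e, Nat.card_eq_fintype_card]
  exact Int.natCast_modEq_iff.mpr h1

end Cfsg.Agent.Lib.Helper85.OCls
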