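import Mathlib
import Cfsg.Agent.Lib.Helper14.OCls.Defs

set_option autoImplicit false

/-! Project OCLS (S2673-S2675, coordinator helper14), package SING. -/

namespace Cfsg.Agent.Lib.Helper85.OCls

open Cfsg.Agent.Lib.Helper14.OCls MvPolynomial

universe u

/-- A quadratic form in at least three variables over a finite field has a non-trivial zero
(Chevalley-Warning). -/
theorem pkgSing : PkgSing.{u} := by
  intro F _ _ V _ _ _ Q h3
  classical
  let bV := Module.finBasis F V
  let e : Fin 3 → V := fun i => bV (Fin.castLE h3 i)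
  have hli : LinearIndependent F e :=
    bV.linearIndependent.comp _ (Fin.castLE_injective h3)
  let f : MvPolynomial (Fin 3) F :=
    C (Q (e 0)) * X 0 * X 0 + C (Q (e 1)) * X 1 * X 1 + C (Q (e 2)) * X 2 * X 2 +
      C (QuadraticMap.polar Q (e 0) (e 1)) * X 0 * X 1 +
      C (QuadraticMap.polar Q (e 0) (e 2)) * X 0 * X 2 +
      C (QuadraticMap.polar Q (e 1) (e 2)) * X 1 * X 2
  have hterm : ∀ (a : F) (i j : Fin 3),
      (C a * X i * X j : MvPolynomial (Fin 3) F).totalDegree ≤ 2 := by
    intro a i j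
    have h1 : (C a * X i : MvPolynomial (Fin 3) F).totalDegree ≤ 1 := by
      refine (totalDegree_mul _ _).trans ?_
      rw [totalDegree_C, totalDegree_X]
    refine (totalDegree_mul _ _).trans ?_
    rw [totalDegree_X]
    omega
  have hadd : ∀ a b : MvPolynomial (Fin 3) F, a.totalDegree ≤ 2 → b.totalDegree ≤ 2 →
      (a + b).totalDegree ≤ 2 := fun a b ha hb =>
    (totalDegree_add a b).trans (max_le ha hb)
  have hdeg : f.totalDegree ≤ 2 :=
    hadd _ _ (hadd _ _ (hadd _ _ (hadd _ _ (hadd _ _ (hterm _ _ _) (hterm _ _ _))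
      (hterm _ _ _)) (hterm _ _ _)) (hterm _ _ _)) (hterm _ _ _)
  have heval : ∀ x : Fin 3 → F,
      MvPolynomial.eval x f = Q (x 0 • e 0 + x 1 • e 1 + x 2 • e 2) := by
    intro x
    simp only [f, map_add, map_mul, MvPolynomial.eval_C, MvPolynomial.eval_X]
    rw [QuadraticMap.map_add (⇑Q) (x 0 • e 0 + x 1 • e 1) (x 2 • e 2),
      QuadraticMap.map_add (⇑Q) (x 0 • e 0) (x 1 • e 1), QuadraticMap.polar_add_left]
    simp only [QuadraticMap.map_smul, QuadraticMap.polar_smul_left,
      QuadraticMap.polar_smul_right, smul_eq_mul]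
    ring
  obtain ⟨p, hp⟩ := CharP.exists F
  haveI := hp
  have hpprime : p.Prime := CharP.char_is_prime F p
  have hdvd : p ∣ Fintype.card {x : Fin 3 → F // MvPolynomial.eval x f = 0} :=
    char_dvd_card_solutions p (by rw [Fintype.card_fin]; omega)
  have h0 : MvPolynomial.eval (0 : Fin 3 → F) f = 0 := by rw [heval]; simp
  have hcard : 1 < Fintype.card {x : Fin 3 → F // MvPolynomial.eval x f = 0} := by
    have hpos : 0 < Fintype.card {x : Fin 3 → F // MvPolynomial.eval x f = 0} :=
      Fintype.card_pos_iff.mpr ⟨⟨0, h0⟩⟩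
    have h1 := Nat.le_of_dvd hpos hdvd
    have h2 := hpprime.two_le
    omega
  obtain ⟨x, hx⟩ := Fintype.exists_ne_of_one_lt_card hcard ⟨0, h0⟩
  refine ⟨x.1 0 • e 0 + x.1 1 • e 1 + x.1 2 • e 2, ?_, by rw [← heval]; exact x.2⟩
  intro hzero
  apply hx
  apply Subtype.ext
  have h4 := Fintype.linearIndependent_iff.mp hli x.1 (by rw [Fin.sum_univ_three]; exact hzero)
  funext i
  exact h4 i

end Cfsg.Agent.Lib.Helper85.OCls
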